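import Cfsg.Agent.McR.Loc
import Cfsg.Agent.S2119
import Cfsg.Agent.AutCl.Basic
import Cfsg.Agent.Schur.Lift

/-! Automorphisms of `2·A₈`. -/

set_option autoImplicit false
set_option maxRecDepth 100000
set_option exponentiation.threshold 100000
set_option synthInstance.maxSize 2048
set_option linter.unusedSectionVars false

namespace Cfsg.Agent.McR

open Cfsg.Agent.Comp Cfsg.Agent.Known Cfsg.Agent.BG Cfsg.Agent.Rec Cfsg.Agent.Spor Cfsg.Agent.AutCl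

variable {L : Type*} [Group L] {y : ℕ → L} {f s : MulAut L}

def Inr (f : MulAut L) : Prop := ∃ m, f = MulAut.conj m

theorem out_two (hp : Group.IsPerfect L) (e : L ⧸ Subgroup.center L ≃* alternatingGroup (Fin 8)) (f g : MulAut L) :
    Inr f ∨ Inr g ∨ Inr (f * g) := by
  let β : MulAut L →* MulAut (alternatingGroup (Fin 8)) := (MulAut.congr e).toMonoidHom.comp quotAut
  have k : ∀ f (c : Equiv.Perm (Fin 8)), c ∈ alternatingGroup (Fin 8) → MulAut.conjNormal c = β f → Inr f := fun f c hc hx => by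
    obtain ⟨x, hx'⟩ := e.surjective ⟨c, hc⟩
    obtain ⟨l, rfl⟩ := QuotientGroup.mk_surjective x
    refine ⟨l, MulEquiv.ext fun x => DFunLike.congr_fun (Schur.lift_unique_of_perfect hp (ξ := QuotientGroup.mk' _)
      (QuotientGroup.ker_mk' _).le (φ := f.toMonoidHom) (ψ := (MulAut.conj l).toMonoidHom) (MonoidHom.ext fun x => e.injective ?_)) x⟩
    have := congrArg Subtype.val (DFunLike.congr_fun hx (e x))
    refine Subtype.ext ?_
    simpa [β, quotAut, hx'] using this.symm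
  obtain ⟨c, hc⟩ := (S2119.result 8 (by decide) (by decide)).2 (β f)
  obtain ⟨d, hd⟩ := (S2119.result 8 (by decide) (by decide)).2 (β g)
  rcases Int.units_eq_one_or (Equiv.Perm.sign c) with h1 | h1
  · exact .inl (k f c h1 hc)
  rcases Int.units_eq_one_or (Equiv.Perm.sign d) with h2 | h2
  · exact .inr (.inl (k g d h2 hd))
  exact .inr (.inr (k _ (c * d) (by simp [Equiv.Perm.mem_alternatingGroup, h1, h2]) (by rw [map_mul, map_mul, hc, hd])))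

theorem Inr.mul {f g : MulAut L} (a : Inr f) (b : Inr g) : Inr (f * g) := let ⟨m, e⟩ := a; let ⟨n, e'⟩ := b; ⟨m * n, by simp [e, e']⟩

def sw : List (List ℕ) := [[2], [0, 2, 0, 2, 1], [0], [5], [0, 2, 0, 2, 4], [3]]
def sbw (w : List ℕ) : List ℕ := w.flatMap (nthL [] sw)
def sg (n : ℕ) : ℕ := Comp.get 9 511 (nat_lit 0xbfdfafb7cbadd2ed6db75e6f77ab85c6e573905def1129d4c2a151a5d32cb63b254df1479dc4e295aacd72b71daab3aaf41b154ad169a7d2a9366b3d3a9b48b03fdf2ea74c02a8fc88c421f0eafdae0ae883421c2e08f4261b6a974bdbede94c7257079349e37216e36a496f864ceb12a92bb5dcef7bb56035daf5b27f3e9ecf2631f85c2a6536944de730481c0a2b42a33f9fb407dbea8b618bbd9e8f560b0190c98c46634d268d1287386a34d8ec67138e6b3496cb18b2362489b0d961b0a2ce7733b1d6d067d599acc65b29e0f172b91badb6bb59e6f25f2fd62a8552d170b95bab152ba59ac97aa757ab956b656aed6abc582994aa45128d168442a1d0c9441235188f4724d249c4b25512904c25d349950a0d22884f2753ea04526d0081311f4fc783a9d0ee7c3c960f67a351a4e270379b8da6c309cce46833980be5a2c9fcd66632970ba5e2d990c6762b15c743b170b4602f188e07234198d86a37190b0783e1e8fc80412111086452a1549a4e24128924c2591c9e512814ca446150ac341b0a0582a190c04c381e0e8803e21140a448230b8984a2711044240903820160a06830200e078180604028040400)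 n
noncomputable def FF (e : Bool) (n x : ℕ) : ℕ := cc n (Bool.rec x (sg x) e)
def PW : List (List ℕ × List ℕ) := [([1, 0, 2, 4, 5, 3, 4, 1], [0, 1, 4, 3, 0, 5, 2, 4, 1, 0]), ([2, 5], [4, 5, 2, 1, 0, 1]), ([0, 3], [0, 1, 3, 2, 1, 0, 3, 4]), ([1, 2, 1, 5], [1, 4, 5, 2, 1, 0]), ([1, 0, 1, 3], [0, 1, 2, 4, 3, 0]), ([2, 1, 2, 4, 5, 4], [0, 2, 5, 4, 1, 5, 2]), ([0, 2, 4, 5, 3, 4], [4, 1, 3, 0, 5, 2, 1, 4]), ([4, 1, 0, 1, 3, 4], [0, 3, 4, 1, 2, 3, 0]), ([1, 2, 4, 3], [2, 3, 2, 0, 1]), ([1, 2, 5], [5, 0, 4, 1]), ([0, 4, 3, 5, 2, 4], [4, 1, 2, 3, 0, 1, 5, 4]), ([0, 2, 5, 3], [1, 3, 0, 5, 2, 1]), ([1, 3, 0, 4, 3], [3, 2, 4, 1, 3]), ([1, 5, 0, 4, 5], [5, 2, 4, 1, 5]), ([0, 3, 5, 2], [1, 2, 3, 0, 1, 5]), ([1, 3, 2, 4], [0, 1, 2, 3, 2]), ([1, 5, 2], [0, 4, 1, 5]), ([1, 0, 4, 3, 5, 2, 4, 1], [0, 1, 2, 4, 3, 0, 5, 4, 1, 0]), ([0, 1, 4], [4, 1, 2]), ([0, 2, 1, 0, 5, 4, 3, 4, 5, 2], [0, 3, 4, 5, 2,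 4, 1, 2, 3, 0]), ([3, 0, 5, 2, 1, 0, 2, 4, 5, 3], [0, 3, 0, 1, 4, 5, 2, 4, 1, 0, 3, 4]), ([3, 2, 4, 5, 4, 3, 4], [3, 0, 4, 5, 2, 1, 0, 4, 3]), ([0, 5, 4, 3, 4, 5, 4], [3, 0, 5, 2, 1, 2, 4, 5, 3]), ([2, 1, 2, 3, 4, 5, 4, 3], [2, 3, 0, 5, 4, 1, 3, 5, 2]), ([3, 0, 4, 1, 2, 1, 5, 0, 4, 3], [5, 2, 4, 1, 3, 0, 1, 2, 4, 5]), ([0, 1, 5, 0, 4, 3, 4, 5], [0, 3, 5, 2, 4, 1, 3, 0, 5]), ([1, 3, 2, 4, 5, 4, 3, 4, 1], [3, 5, 2, 4, 1, 0, 2, 5, 3]), ([1, 0, 5, 4, 3, 4, 5, 4, 1], [3, 0, 4, 1, 0, 2, 5, 4, 3]), ([1, 3, 0, 5, 4, 3, 5], [3, 5, 2, 4, 1, 5, 3]), ([1, 3, 4, 3, 5, 4, 3, 4], [3, 0, 5, 2, 1, 0, 2, 4, 5, 3]), ([0, 4, 5, 4, 1, 3, 0, 4, 5], [2, 3, 4, 1, 5, 2, 4, 3, 4]), ([0, 4, 1], [1, 2, 4]), ([0, 1, 0, 4], [2, 4, 1, 2]), ([1, 4], [0, 2, 4, 1, 2, 0]), ([0, 2, 1, 3, 5, 4, 3, 5, 0, 2], [0, 3, 0, 4, 5, 2, 4, 1, 3, 2, 0, 1]), ([0, 1, 3, 5, 4, 3, 0, 5], [5, 4, 1, 3, 2, 0, 1, 2, 4, 5]), ([0, 3, 5, 4,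 3, 2, 1, 0, 1, 2, 5], [2, 3, 0, 1, 2, 4, 5, 4, 1, 0, 3]), ([0, 1, 0, 3, 5, 2, 1, 0, 4, 5, 3], [0, 1, 4, 3, 2, 4, 5, 4, 1, 3, 0]), ([2, 1, 3, 5, 4, 5, 3, 2], [3, 4, 1, 5, 0, 2, 1, 0, 4, 3]), ([0, 1, 3, 0, 4, 3, 5, 4, 3], [3, 4, 1, 5, 0, 2, 1, 0, 4, 3]), ([1, 3, 5, 4, 5, 3], [3, 0, 5, 2, 4, 1, 0, 2, 5, 3]), ([1, 3, 4, 5, 2, 4, 3, 4, 1], [5, 4, 1, 3, 2, 0, 1, 2, 4, 5]), ([0, 4, 5, 4, 3, 4, 5], [3, 0, 1, 2, 1, 5, 4, 5, 3, 2]), ([3, 4, 5, 2, 4, 3, 4], [0, 3, 5, 4, 1, 3, 0, 1, 2, 5]), ([1, 3, 5, 4, 1, 3, 5, 4], [0, 1, 5, 2, 1, 4, 3, 4, 5, 0, 4]), ([1, 4, 5, 4, 3, 4, 1, 2, 5], [3, 0, 5, 4, 1, 3, 5, 4, 3])]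

/-- the outer automorphism -/
def So (y : ℕ → L) (s : MulAut L) : Prop := ∀ l < 6, s (y l) = W y (nthL [] sw l)
/-- the basic data -/
structure Sc (y : ℕ → L) (s : MulAut L) : Prop where
  st : St y
  cz : ∀ x, Commute x (ff y 23)
  out : ∀ f g : MulAut L, Inr f ∨ Inr g ∨ Inr (f * g)
  so : So y s

theorem St.top (h : St y) (hz : ∀ x, Commute x (ff y 23)) : genL y (List.range 6) = ⊤ :=
  h.gen'.trans (eq_top_iff.2 fun x _ => Subgroup.mem_centralizer_singleton_iff.2 (hz x))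

theorem St.exists_s [Finite L] (h : St y) (hz : ∀ x, Commute x (ff y 23)) : ∃ s, So y s := by
  have c0 : ∀ v : List (List ℕ), (∀ i < 6, eqB McR.act BB (nthL [] v i ++ nthL [] v i ++ nthL [] v i) [] = true ∧ ∀ j < 6, i ≠ j →
      eqB McR.act BB (nthL [] v i ++ nthL [] v j ++ (nthL [] v i ++ nthL [] v j)) (wd 23) = true) →
      Car (fun i => W y (nthL [] v i)) (ff y 23) := fun v e =>
    ⟨fun i hi => by simpa only [W_append, pow_succ, pow_zero, one_mul, W_nil] using (h.eq _ _).2 (e i hi).1,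
      fun i hi j hj ne => by simpa only [W_append, _root_.sq, ff] using (h.eq _ _).2 ((e i hi).2 j hj ne), h.zz, h.z_ne, fun i _ => hz _⟩
  have c := c0 [[6], [7], [8], [9], [10], [11]] (by decide +kernel)
  have c' := c0 [[1, 3, 0, 4, 3, 5, 2, 4, 1, 3], [1, 0, 1, 4, 3, 2, 4, 5, 4, 1, 0, 3], [1, 0, 2, 3, 4, 1, 5, 4, 3, 4], [0, 3, 4, 1, 0, 3, 5, 2, 1, 4, 3, 0], [0, 4, 1, 2, 3, 0, 1, 5, 0, 4], [4, 3, 5, 0, 1, 2, 4, 1, 0, 1]] (by decide +kernel)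
  have k : ∀ v : List (List ℕ), ∀ w, W (fun i => W y (nthL [] v i)) w = W y (w.flatMap (nthL [] v)) := fun v w => by
    induction w with
    | nil => rfl
    | cons a w ih => rw [W_cons, ih, List.flatMap_cons, W_append]
  have m : ∀ l < 6, (y l, W y (nthL [] sw l)) ∈ genL (fun i => (W y (nthL [] [[6], [7], [8], [9], [10], [11]] i), W y (nthL [] [[1, 3, 0, 4, 3, 5, 2, 4, 1, 3], [1, 0, 1, 4, 3, 2, 4, 5, 4, 1, 0, 3], [1, 0, 2, 3, 4, 1, 5, 4, 3, 4], [0, 3, 4, 1, 0, 3, 5, 2, 1, 4, 3, 0], [0, 4, 1, 2, 3, 0, 1, 5, 0, 4], [4, 3, 5, 0, 1, 2, 4, 1, 0, 1]] i)))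
      (List.range 6) := fun l hl => by
    have := W_mem (x := fun i => (W y (nthL [] [[6], [7], [8], [9], [10], [11]] i), W y (nthL [] [[1, 3, 0, 4, 3, 5, 2, 4, 1, 3], [1, 0, 1, 4, 3, 2, 4, 5, 4, 1, 0, 3], [1, 0, 2, 3, 4, 1, 5, 4, 3, 4], [0, 3, 4, 1, 0, 3, 5, 2, 1, 4, 3, 0], [0, 4, 1, 2, 3, 0, 1, 5, 0, 4], [4, 3, 5, 0, 1, 2, 4, 1, 0, 1]] i))) (l := nthL [] us l)
      fun a ha => mem_genL _ (show a ∈ List.range 6 by revert l a; decide)
    rwa [W_pair, k, k, (h.eq (List.flatMap (nthL [] [[1, 3, 0, 4, 3, 5, 2, 4, 1, 3], [1, 0, 1, 4, 3, 2, 4, 5, 4, 1, 0, 3], [1, 0, 2, 3, 4, 1, 5, 4, 3, 4], [0, 3, 4, 1, 0, 3, 5, 2, 1, 4, 3, 0], [0, 4, 1, 2, 3, 0, 1, 5, 0, 4], [4, 3, 5, 0, 1, 2, 4, 1, 0, 1]]) _) (nthL [] sw l)).2 (by clear this; revert l; decide +kernel),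
      (h.eq (List.flatMap _ _) [l]).2 (by clear this; revert l; decide +kernel), W_cons, W_nil, mul_one] at this
  have t := fun {a b a' b'} => tr_iff c c' (a := a) (b := b) (a' := a') (b' := b')
  generalize genL (G := L × L) _ (List.range 6) = K at m t
  let e := MulEquiv.ofBijective ((MonoidHom.fst L L).comp K.subtype) ⟨fun p q e => Subtype.ext (Prod.ext e ((t p.2 q.2).1 e)),
    sj' (top_le_iff.1 ((h.top hz).ge.trans (genL_le fun l hl => ⟨_, m l (List.mem_range.1 hl), rfl⟩)))⟩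
  refine ⟨MulEquiv.ofBijective (((MonoidHom.snd L L).comp K.subtype).comp e.symm.toMonoidHom) (Finite.injective_iff_bijective.1
    fun a b e' => e.symm.injective (Subtype.ext (Prod.ext ((t (e.symm a).2 (e.symm b).2).2 e') e'))), fun l hl => ?_⟩
  exact congrArg (fun p : K => p.1.2) (e.symm_apply_apply ⟨_, m l hl⟩)

namespace Sc
variable [Finite L] (H : Sc y s)
include H

theorem sW {w : List ℕ} (hw : ∀ l ∈ w, l < 6) : s (W y w) = W y (sbw w) := by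
  induction w with
  | nil => exact map_one s
  | cons a w ih =>
    rw [W_cons, map_mul, ih fun l hl => hw l (List.mem_cons_of_mem _ hl), H.so a (hw a List.mem_cons_self), ← W_append]; rfl

theorem sf {n : ℕ} (hn : n < 384) : sg n < 384 ∧ s (ff y n) = ff y (sg n) :=
  ⟨by revert n; decide +kernel, (H.sW (edge n hn).2.1).trans ((H.st.eq _ _).2 (by revert n; decide +kernel))⟩

theorem ss : s * s = 1 := MulEquiv.ext fun x => by
  refine (genL_le (H := (s * s).toMonoidHom.eqLocus (MonoidHom.id L)) fun l hl => ?_) ((H.st.top H.cz).ge (Subgroup.mem_top x))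
  have hl := List.mem_range.1 hl
  show s (s (y l)) = y l
  rw [H.so l hl, H.sW (by revert l; decide), (H.st.eq _ [l]).2 (by revert l; decide +kernel)]; simp

theorem nV {m : L} (e : m * ff y 181 * m⁻¹ = ff y 181 ∨ m * ff y 181 * m⁻¹ = ff y 169) : ∃ n < 384, m = ff y n := by
  rcases e with e | e
  · obtain ⟨n, hn, e⟩ := H.st.surj (H.cz m) (mul_inv_eq_iff_eq_mul.1 e)
    exact ⟨n, by omega, e⟩
  · have e1 : ff y 192 * ff y 169 * (ff y 192)⁻¹ = ff y 181 := (H.st.cc (by decide) (by decide)).symm.trans (congrArg _ (by decide +kernel))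
    obtain ⟨n, hn, e⟩ := H.st.surj (H.cz (ff y 192 * m)) (mul_inv_eq_iff_eq_mul.1 ((by group : _ = ff y 192 *
      (m * ff y 181 * m⁻¹) * (ff y 192)⁻¹).trans (e ▸ e1)))
    have a : 192 < 384 := by decide
    have b : n < 384 := by omega
    exact ⟨_, mul_lt (iv_lt a) b, by rw [H.st.mul (iv_lt a) b, H.st.iv a, ← e]; group⟩

theorem cen (x : L) (c : ∀ l, Commute l x) : x = 1 ∨ x = ff y 23 := by
  obtain ⟨n, hn, rfl⟩ := H.st.surj (H.cz x) (c _).symm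
  have k : ∀ g < 384, McR.mul n g = McR.mul g n := fun g hg => (H.st.cm (by omega) hg).2 (c _).symm
  exact ((show ∀ n < 192, McR.mul n 1 = McR.mul 1 n → McR.mul n 2 = McR.mul 2 n → McR.mul n 192 = McR.mul 192 n → n = 0 ∨ n = 23 by
    decide +kernel) n hn (k _ (by decide)) (k _ (by decide)) (k _ (by decide))).imp (congrArg _) (congrArg _)

theorem fz (f : MulAut L) : f (ff y 23) = ff y 23 :=
  (H.cen _ fun l => by simpa using (H.cz (f.symm l)).map f).resolve_left (by simpa using H.st.z_ne)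

theorem outer : ¬ Inr s := fun ⟨m, e⟩ => by
  have k : ∀ x < 384, m * ff y x * m⁻¹ = ff y (sg x) := fun x hx => by rw [← (H.sf hx).2, e]; rfl
  obtain ⟨n, hn, rfl⟩ := H.nV (.inr (k 181 (by decide)))
  have k' : ∀ x < 384, McR.cc n x = sg x := fun x hx => H.st.inj (cc_lt hn hx) (H.sf hx).1 ((H.st.cc hn hx).trans (k x hx))
  exact (show ∀ n < 384, McR.cc n 1 = sg 1 → McR.cc n 2 = sg 2 → McR.cc n 38 = sg 38 → McR.cc n 193 ≠ sg 193 by decide +kernel) n hn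
    (k' _ (by decide)) (k' _ (by decide)) (k' _ (by decide)) (k' _ (by decide))

theorem dec (f : MulAut L) : ∃ m, ∃ e : Bool, f = MulAut.conj m * Bool.rec 1 s e := by
  rcases H.out f s with ⟨m, e⟩ | e | ⟨m, e⟩
  exacts [⟨m, false, by simpa using e⟩, absurd e H.outer, ⟨m, true, by rw [← e, mul_assoc, H.ss, mul_one]⟩]

theorem par (e : f (ff y 181) = ff y 181 ∨ f (ff y 181) = ff y 169) : ∃ n < 384, ∃ e : Bool, f = MulAut.conj (ff y n) * Bool.rec 1 s e ∧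
    ∀ x < 384, FF e n x < 384 ∧ f (ff y x) = ff y (FF e n x) := by
  obtain ⟨m, b, rfl⟩ := H.dec f
  have k : ∀ x < 384, (Bool.rec x (sg x) b : ℕ) < 384 ∧ (Bool.rec 1 s b : MulAut L) (ff y x) = ff y (Bool.rec x (sg x) b) := fun x hx => by
    cases b
    exacts [⟨hx, rfl⟩, H.sf hx]
  obtain ⟨n, hn, rfl⟩ := H.nV (m := m) (by
    rw [MulAut.mul_apply, (k _ (by decide)).2, MulAut.conj_apply] at e
    cases b
    · exact e
    · have e1 : ff y 181 = ff y 169 * ff y 23 := (H.st.m (c := 181)).symm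
      have e2 : ff y 169 = ff y 181 * ff y 23 := (H.st.m (c := 169)).symm
      have e3 : m * ff y 181 * m⁻¹ = m * ff y 169 * m⁻¹ * ff y 23 := by rw [e1, mul_assoc (m * _), (H.cz m⁻¹).eq]; group
      rw [e3]
      exact e.symm.imp (fun e => (congrArg (· * _) e).trans e1.symm) fun e => (congrArg (· * _) e).trans e2.symm)
  exact ⟨n, hn, b, rfl, fun x hx => ⟨cc_lt hn (k x hx).1, by rw [MulAut.mul_apply, (k x hx).2]; exact (H.st.cc hn (k x hx).1).symm⟩⟩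

theorem AB (hf : f * f = 1) : ∃ a b, f a = a ∧ f b = b ∧ a * a * a = 1 ∧ b * b * b = 1 ∧ a * b * (a * b) = ff y 23 ∧
    a * b * (a * (a * b) * a⁻¹) * (a * b * (a * (a * b) * a⁻¹)) = ff y 23 := by
  obtain ⟨P, hP⟩ := (Invol.isPGroup_zpowers (p := 2) (n := 1) (x := f) (by simpa [sq] using hf)).nonempty_fixed_point_of_prime_not_dvd_card
    (Sylow 2 L) (not_dvd_card_sylow 2 L)
  have hP : ∀ x ∈ P, f x ∈ P := fun x hx => hP ⟨f, Subgroup.mem_zpowers f⟩ ▸ Subgroup.smul_mem_pointwise_smul x f _ hx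
  obtain ⟨k, -, hk⟩ := Sylow_trans H.st.syl (sylowIn_top P)
  let g := MulAut.conj k⁻¹ * f * MulAut.conj k
  have hg : g * g = 1 := by
    rw [show g * g = MulAut.conj k⁻¹ * (f * (MulAut.conj k * MulAut.conj k⁻¹) * f) * MulAut.conj k by simp only [g, mul_assoc]]
    simp [← map_mul, hf]
  have gT : ∀ x ∈ sb y MT, g x ∈ sb y MT := fun x hx => by
    have := hP _ (show k * x * k⁻¹ ∈ (P : Subgroup L) from hk ▸ conj_mem_cj k hx)
    have : f (k * x * k⁻¹) ∈ cj k (sb y MT) := hk ▸ this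
    simpa [g, mul_assoc] using mem_cj.1 this
  suffices ∃ a b, g a = a ∧ g b = b ∧ a * a * a = 1 ∧ b * b * b = 1 ∧ a * b * (a * b) = ff y 23 ∧
      a * b * (a * (a * b) * a⁻¹) * (a * b * (a * (a * b) * a⁻¹)) = ff y 23 by
    obtain ⟨a, b, h1, h2, h3, h4, h5, h6⟩ := this
    have e : ∀ {a}, g a = a → f (MulAut.conj k a) = MulAut.conj k a := fun {a} e => by nth_rw 2 [← e]; simp [g, mul_assoc]
    exact ⟨_, _, e h1, e h2, by simp only [← map_mul, h3, map_one], by simp only [← map_mul, h4, map_one],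
      by simp only [← map_mul, h5, H.fz], by simp only [← map_mul, ← map_inv, h6, H.fz]⟩
  generalize g = g at hg gT
  have gg : ∀ x, g (g x) = x := fun x => DFunLike.congr_fun hg x
  obtain ⟨p, hp, h1, e⟩ := (H.st.mem_sb clT).1 (gT _ (H.st.mem_T (n := 181) (by decide) (by decide +kernel)))
  have c : ∀ x < 384, tb MT x = true → McR.mul p x = McR.mul x p ∨ McR.mul p x = McR.mul (McR.mul x p) 23 := fun x hx h2 => by
    obtain ⟨q, hq, -, e'⟩ := (H.st.mem_sb clT).1 (gT _ (H.st.mem_T hx h2))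
    refine ((show ∀ q < 384, McR.mul 181 q = McR.mul q 181 ∨ McR.mul 181 q = McR.mul (McR.mul q 181) 23 by decide +kernel) q hq).imp
      (fun e1 => H.st.inj (mul_lt hp hx) (mul_lt hx hp) ?_) fun e1 => H.st.inj (mul_lt hp hx) (mul_lt (mul_lt hx hp) (by decide)) ?_ <;>
      have := congrArg (fun n => g (ff y n)) e1 <;>
      simpa only [H.st.mul, hq, hp, hx, mul_lt, Nat.reduceLT, map_mul, ← e', gg, e, H.fz] using this
  obtain ⟨n, hn, b, rfl, h2⟩ := H.par (f := g) (by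
    rcases (show ∀ p < 384, tb MT p = true → (∀ x ∈ [1, 2, 192], McR.mul p x = McR.mul x p ∨ McR.mul p x = McR.mul (McR.mul x p) 23) →
      p = 0 ∨ p = 23 ∨ p = 181 ∨ p = 169 by decide +kernel) p hp h1 (fun x hx => c x (by revert x; decide) (by revert x; decide +kernel)) with
      rfl | rfl | rfl | rfl
    exacts [absurd ((H.st.eq_one (by decide)).1 (g.injective (e.trans (map_one g).symm))) (by decide),
      absurd (H.st.inj (by decide) (by decide) (g.injective (e.trans (H.fz g).symm))) (by decide), .inl e, .inr e])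
  obtain ⟨t, ht, h3⟩ := (show ∀ b : Bool, ∀ n < 384, (∀ x ∈ [1, 2, 38, 193], FF b n (FF b n x) = x) → ∃ t ∈ PW,
      eqB McR.act BB (wd n ++ Bool.rec t.1 (sbw t.1) b) (t.1 ++ wd n) = true ∧
      eqB McR.act BB (wd n ++ Bool.rec t.2 (sbw t.2) b) (t.2 ++ wd n) = true by decide +kernel) b n hn fun x hx => by
    have hx : x < 384 := by revert x; decide
    exact H.st.inj (h2 _ (h2 x hx).1).1 hx (by rw [← (h2 _ (h2 x hx).1).2, ← (h2 x hx).2, gg])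
  obtain ⟨⟨a1, a2⟩, a3, a4, a5, a6⟩ := (show ∀ t ∈ PW, ((∀ l ∈ t.1, l < 6) ∧ ∀ l ∈ t.2, l < 6) ∧ eqB McR.act BB (t.1 ++ t.1 ++ t.1) [] = true ∧
      eqB McR.act BB (t.2 ++ t.2 ++ t.2) [] = true ∧ eqB McR.act BB (t.1 ++ t.2 ++ (t.1 ++ t.2)) (wd 23) = true ∧
      eqB McR.act BB (t.1 ++ t.2 ++ (t.1 ++ (t.1 ++ t.2) ++ t.1.reverse) ++ (t.1 ++ t.2 ++ (t.1 ++ (t.1 ++ t.2) ++ t.1.reverse))) (wd 23) = true by
        decide +kernel) t ht
  have k : ∀ {w}, (∀ l ∈ w, l < 6) → eqB McR.act BB (wd n ++ Bool.rec w (sbw w) b) (w ++ wd n) = true →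
      (MulAut.conj (ff y n) * Bool.rec 1 s b : MulAut L) (W y w) = W y w := fun {w} hw e => by
    have := (H.st.eq _ _).2 e
    rw [W_append, W_append, ← mul_inv_eq_iff_eq_mul] at this
    cases b
    exacts [this, (congrArg (MulAut.conj (ff y n)) (H.sW hw)).trans this]
  exact ⟨_, _, k a1 h3.1, k a2 h3.2, by simpa only [W_append, W_nil] using (H.st.eq _ _).2 a3,
    by simpa only [W_append, W_nil] using (H.st.eq _ _).2 a4, by simpa only [W_append, ff] using (H.st.eq _ _).2 a5,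
    by simpa only [W_append, H.st.W_rev a1, ff] using (H.st.eq _ _).2 a6⟩

/-- no quaternion group modulo `z` with centre of order four above -/
theorem q8 {M : Subgroup L} (hM : IsPGroup 2 M) {a b : L} (ha : a ∈ M) (hb : b ∈ M) (h1 : b * b = a * a ∨ b * b = a * a * ff y 23)
    (h2 : a * b * (a * b) = a * a ∨ a * b * (a * b) = a * a * ff y 23) : a * a * (a * a) = 1 := by
  obtain ⟨k, -, hk⟩ := Sylow_Jsub H.st.syl le_top hM
  obtain ⟨p, hp, c1, e1⟩ := (H.st.mem_sb clT).1 (hk (conj_mem_cj k ha))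
  obtain ⟨q, hq, c2, e2⟩ := (H.st.mem_sb clT).1 (hk (conj_mem_cj k hb))
  have e1 : MulAut.conj k a = ff y p := e1
  have e2 : MulAut.conj k b = ff y q := e2
  have k1 : ∀ {u v : L} {m n}, m < 384 → n < 384 → MulAut.conj k u = ff y m → MulAut.conj k v = ff y n → u = v ∨ u = v * ff y 23 →
      m = n ∨ m = McR.mul n 23 := fun hm hn a b c => c.imp (fun c => H.st.inj hm hn (by rw [← a, ← b, c])) fun c =>
    H.st.inj hm (mul_lt hn (by decide)) (by rw [H.st.mul hn (by decide), ← a, ← b, c, map_mul, H.fz])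
  have k2 : ∀ {u v : L} {m n}, m < 384 → n < 384 → MulAut.conj k u = ff y m → MulAut.conj k v = ff y n →
      MulAut.conj k (u * v) = ff y (McR.mul m n) := fun hm hn a b => by rw [H.st.mul hm hn, map_mul, a, b]
  have := (show ∀ p < 384, tb MT p = true → McR.mul (McR.mul p p) (McR.mul p p) = 0 ∨ ∀ q < 384, tb MT q = true →
    (McR.mul q q = McR.mul p p ∨ McR.mul q q = McR.mul (McR.mul p p) 23) → ¬ (McR.mul (McR.mul p q) (McR.mul p q) = McR.mul p p ∨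
      McR.mul (McR.mul p q) (McR.mul p q) = McR.mul (McR.mul p p) 23) by decide +kernel) p hp c1 |>.resolve_right fun e => e q hq c2
    (k1 (mul_lt hq hq) (mul_lt hp hp) (k2 hq hq e2 e2) (k2 hp hp e1 e1) h1)
    (k1 (mul_lt (mul_lt hp hq) (mul_lt hp hq)) (mul_lt hp hp) (k2 (mul_lt hp hq) (mul_lt hp hq) (k2 hp hq e1 e2) (k2 hp hq e1 e2))
      (k2 hp hp e1 e1) h2)
  exact (MulAut.conj k).injective ((k2 (mul_lt hp hp) (mul_lt hp hp) (k2 hp hp e1 e1) (k2 hp hp e1 e1)).trans (this ▸ (map_one _).symm))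

theorem fixu {K : Subgroup L} (hf : f (ff y 181) = ff y 181) (hz : ff y 23 ∉ K) (h1 : ∀ x, Commute x (ff y 181) → x * (f x)⁻¹ ∈ K)
    (h2 : ∀ x, Commute x (ff y 181) → ∀ c ∈ K, x * c * x⁻¹ ∈ K) : f = 1 ∨ f = MulAut.conj (ff y 181) := by
  obtain ⟨n, hn, b, e, h3⟩ := H.par (.inl hf)
  have cu : ∀ x < 192, Commute (ff y x) (ff y 181) := fun x hx => (H.st.cm (by omega) (by decide)).1 (by revert x; decide +kernel)
  have zc : MulAut.conj (ff y 23) = 1 := MulEquiv.ext fun x => mul_inv_eq_iff_eq_mul.2 (H.cz x).symm.eq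
  rcases (show ∀ b : Bool, ∀ n < 384, FF b n 181 = 181 → (b = false ∧ (n = 0 ∨ n = 23 ∨ n = 181 ∨ n = 169)) ∨ ∃ x ∈ [1, 2, 6],
      McR.mul x (McR.iv (FF b n x)) = 23 ∨ ∃ r < 192, McR.mul (McR.cc r (McR.mul x (McR.iv (FF b n x)))) (McR.iv (McR.mul x (McR.iv (FF b n x)))) = 23 by
        decide +kernel) b n hn (H.st.inj (h3 _ (by decide)).1 (by decide) ((h3 _ (by decide)).2.symm.trans hf)) with
    ⟨rfl, rfl | rfl | rfl | rfl⟩ | ⟨x, hx, h4⟩
  exacts [.inl (by simpa [ff_zero] using e), .inl (by simpa [zc] using e), .inr (by simpa using e),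
    .inr (by simpa [← H.st.m (a := 181) (b := 23) (c := 169), zc] using e), by
      have hx : x < 192 := by clear h4; revert x; decide
      have hx' : x < 384 := by omega
      have c := mul_lt hx' (iv_lt (h3 x hx').1)
      have := h1 _ (cu x hx)
      rw [(h3 x hx').2, ← H.st.iv (h3 x hx').1, ← H.st.mul hx' (iv_lt (h3 x hx').1)] at this
      rcases h4 with h4 | ⟨r, hr, h4⟩
      · exact absurd (h4 ▸ this) hz
      · refine absurd ?_ hz
        rw [← h4, H.st.mul (cc_lt (by omega) c) (iv_lt c), H.st.cc (by omega) c, H.st.iv c]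
        exact mul_mem (h2 _ (cu r hr) _ this) (inv_mem this)]

theorem four {m n : L} (h1 : Commute m (ff y 181)) (h2 : Commute n (ff y 181)) (h3 : n * n = 1) (h4 : Commute m n) :
    m * m * (m * m) = 1 ∨ n = 1 ∨ n = ff y 23 ∨ n = ff y 181 ∨ n = ff y 169 := by
  obtain ⟨p, hp, rfl⟩ := H.st.surj (H.cz m) h1
  obtain ⟨q, hq, rfl⟩ := H.st.surj (H.cz n) h2
  have hp' : p < 384 := by omega
  refine ((show ∀ q < 192, McR.mul q q = 0 → (∀ p < 192, McR.mul p q = McR.mul q p → McR.mul (McR.mul p p) (McR.mul p p) = 0) ∨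
    q = 0 ∨ q = 23 ∨ q = 181 ∨ q = 169 by decide +kernel) q hq ((H.st.sq (by omega)).1 h3)).imp (fun e => ?_)
    (Or.imp (congrArg _) (Or.imp (congrArg _) (Or.imp (congrArg _) (congrArg _))))
  rw [← H.st.mul hp' hp', H.st.sq (mul_lt hp' hp')]
  exact e p hp ((H.st.cm hp' (by omega)).2 h4)

end Sc

end Cfsg.Agent.McR
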