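import Cfsg.Agent.McS.Std
import Cfsg.Agent.Rec.Cov

/-! A standard subgroup `2·A₈` of a simple group is the centraliser of its central involution: the global part. -/

set_option autoImplicit false
set_option linter.unusedSectionVars false

namespace Cfsg.Agent.McR

open Cfsg.Agent.Comp Cfsg.Agent.Known Cfsg.Agent.BG Cfsg.Agent.Rec Cfsg.Agent.Spor
open Cfsg.Agent.C3R (Qs cjh mem_Qs cjh_cj Qs_cjh)

variable {G L : Type*} [Group G] [Group L] {y : ℕ → L} {s f : MulAut L} {ι κ : L →* G} {m : L} {a q g h : G}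

def cg (g : G) (ι : L →* G) : L →* G := (MulAut.conj g).toMonoidHom.comp ι

theorem cm_cg {a b : G} : Commute (g * a * g⁻¹) b ↔ Commute a (g⁻¹ * b * g⁻¹⁻¹) :=
  ⟨fun c => by simpa [mul_assoc] using c.conj g⁻¹, fun c => by simpa [mul_assoc] using c.conj g⟩
theorem mem_cg : q ∈ Qs (cg g ι) ↔ g⁻¹ * q * g⁻¹⁻¹ ∈ Qs ι := by rw [mem_Qs, mem_Qs]; exact forall_congr' fun x => cm_cg
theorem Act.cg (e : Act ι (g⁻¹ * h * g⁻¹⁻¹) f) : Act (cg g ι) h f := fun x =>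
  (by group : h * (g * ι x * g⁻¹) * h⁻¹ = g * (g⁻¹ * h * g⁻¹⁻¹ * ι x * (g⁻¹ * h * g⁻¹⁻¹)⁻¹) * g⁻¹).trans (by rw [e x]; rfl)
theorem On.cg {z : L} (o : On z ι) (g : G) : On z (cg g ι) :=
  ⟨(MulAut.conj g).injective.comp o.inj, fun _ c => (o.dec _ (cm_cg.1 c.symm).symm).imp fun _ e => e.cg⟩

theorem St.zT [Finite L] (h : St y) {x : L} (hc : ∀ n < 384, tb MT n = true → Commute x (ff y n)) : x = 1 ∨ x = ff y 23 := by
  obtain ⟨n, hn, rfl⟩ := h.surj (hc 23 (by decide) (by decide +kernel)) (hc 181 (by decide) (by decide +kernel))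
  have hn' : n < 384 := by omega
  exact ((show ∀ n < 192, McR.mul n 1 = McR.mul 1 n → McR.mul n 2 = McR.mul 2 n → McR.mul n 192 = McR.mul 192 n → n = 0 ∨ n = 23 by
    decide +kernel) n hn ((h.cm hn' (by decide)).2 (hc _ (by decide) (by decide +kernel)))
    ((h.cm hn' (by decide)).2 (hc _ (by decide) (by decide +kernel))) ((h.cm hn' (by decide)).2 (hc _ (by decide) (by decide +kernel)))).imp
    (congrArg _) (congrArg _)

structure Gl (ι : L →* G) : Prop where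
  inj : Function.Injective ι
  ti : ∀ g, ∀ i ∈ Qs ι, g⁻¹ * i * g⁻¹⁻¹ ∈ Qs ι → orderOf i = 2 → ∃ f, Act ι g f

variable [Finite L] [Finite G] (H : Sc y s)
include H

theorem Act.cz (e : Act ι g f) : Commute g (ι (ff y 23)) := mul_inv_eq_iff_eq_mul.1 ((e _).trans (congrArg ι (H.fz f)))

theorem Tw.odd (T : Tw (ff y 23) ι κ) (e1 : κ (ff y 23) = ι (ff y 181)) (e2 : κ (ff y 181) = ι (ff y 23))
    (inn : ∀ h, Commute h (κ (ff y 23)) → ∃ m, Rl κ h m) (hq : q ∈ Qs ι) (ho : Odd (orderOf q)) : q ∈ Qs κ := by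
  obtain ⟨m, hm⟩ := inn q (e1 ▸ (mem_Qs.1 hq _).symm)
  obtain ⟨n, hn⟩ := inn (ι (ff y 1)) (e1 ▸ ((H.st.cm (by decide) (by decide)).1 (by decide +kernel)).map ι)
  have r2 : ι (ff y 1) * ι (ff y 1) = 1 := by rw [← map_mul, H.st.m (a := 1) (b := 1) (c := 0), ff_zero, map_one]
  obtain ⟨n, e⟩ := T.img H hn r2
  have k : ∀ {c}, c < 384 → c ≠ 1 → κ n ≠ ι (ff y c) := fun hc h1 e' => h1 (H.st.inj hc (by decide) (T.a.inj (e'.symm.trans e.symm)))
  rcases H.four (hm.cm T.b.inj Rl.self rfl (e2 ▸ (mem_Qs.1 hq _).symm)) (T.b.inj (by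
    rw [map_mul, map_mul, ← e, e2]; exact ((H.cz _).map ι).eq)) (T.b.inj (by rw [map_mul, ← e, r2, map_one]))
    (hm.cm T.b.inj Rl.self rfl (e ▸ (mem_Qs.1 hq _).symm)) with e' | rfl | rfl | rfl | rfl
  · refine Subgroup.zpowers_le.2 (rl_one.1 (e' ▸ (hm.mul hm).mul (hm.mul hm))) ?_
    rw [← _root_.sq, ← _root_.sq, ← pow_mul, mem_zpowers_pow_iff]
    exact (Nat.coprime_two_left.2 ho).mul_left (Nat.coprime_two_left.2 ho)
  · exact absurd (by rw [ff_zero, map_one, map_one]) (k (c := 0) (by decide) (by decide))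
  · exact absurd e1 (k (by decide) (by decide))
  · exact absurd e2 (k (by decide) (by decide))
  · exact absurd (by rw [← H.st.m (a := 23) (b := 181) (c := 169), map_mul, e1, e2, ← map_mul, (H.cz _).eq]) (k (c := 169) (by decide) (by decide))

namespace Gl
variable (Γ : Gl ι)
include Γ

theorem oz : orderOf (ι (ff y 23)) = 2 := (orderOf_injective ι Γ.inj _).trans H.st.ord_z
theorem on : On (ff y 23) ι := ⟨Γ.inj, fun h c => Γ.ti h _ H.zQ (by rw [mul_inv_eq_iff_eq_mul.2 c.inv_left.eq]; exact H.zQ) (Γ.oz H)⟩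
theorem tw (c : Commute (g * ι (ff y 23) * g⁻¹) (ι (ff y 23))) (n : g * ι (ff y 23) * g⁻¹ ≠ ι (ff y 23)) : Tw (ff y 23) ι (cg g ι) :=
  ⟨Γ.on H, (Γ.on H).cg g, c.symm, fun i a b e => let ⟨_, hf⟩ := Γ.ti g i a (mem_cg.1 b) e; n (mul_inv_eq_iff_eq_mul.2 (hf.cz H).eq)⟩
theorem cls (c : Commute (g * ι (ff y 23) * g⁻¹) (ι (ff y 23))) (n : g * ι (ff y 23) * g⁻¹ ≠ ι (ff y 23)) :
    ∃ k, ι k * (g * ι (ff y 23) * g⁻¹) * (ι k)⁻¹ = ι (ff y 181) := (Γ.tw H c n).cls H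
theorem uz : ι (ff y 181) ≠ ι (ff y 23) := fun e => absurd (H.st.inj (by decide) (by decide) (Γ.inj e)) (by decide)

theorem swap (hn : ¬ IsIsolatedInvolution (ι (ff y 23))) :
    ∃ a, a * ι (ff y 23) * a⁻¹ = ι (ff y 181) ∧ a * ι (ff y 181) * a⁻¹ = ι (ff y 23) := by
  obtain ⟨g, h1, h2⟩ : ∃ g, Commute (ι (ff y 23)) (g * ι (ff y 23) * g⁻¹) ∧ g * ι (ff y 23) * g⁻¹ ≠ ι (ff y 23) := by
    by_contra! e; exact hn ⟨Γ.oz H, e⟩
  obtain ⟨k, e⟩ := Γ.cls H h1.symm h2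
  have e : ι k * g * ι (ff y 23) * (ι k * g)⁻¹ = ι (ff y 181) := (by group : _ = _).trans e
  generalize ι k * g = b at e
  obtain ⟨k, e1⟩ := Γ.cls H (g := b⁻¹) (cm_cg.1 (e ▸ (H.cz _).map ι)).symm fun e1 => Γ.uz H (by rw [← e]; nth_rw 1 [← e1]; group)
  refine ⟨b * (ι k)⁻¹, ?_, by rw [← e1]; group⟩
  rw [← e, mul_assoc b, ((H.cz k).map ι).inv_left.eq]; group

theorem odd_index : Odd (C1[ι (ff y 23)]).index := by
  obtain ⟨P, hP, hT⟩ := Sylow_superset (p := 2) (Q := (sb y MT).map ι) (M := C1[ι (ff y 23)]) (by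
    rintro _ ⟨x, -, rfl⟩; exact Subgroup.mem_centralizer_singleton_iff.2 ((H.cz x).map ι).eq) (H.st.sylH.pg.map ι)
  have : SylowIn 2 P ⊤ := Sylow_subnorm (pHall_subl (le_inf le_top Subgroup.le_normalizer) (fun g hg => by
    have hc : ∀ n < 384, tb MT n = true → Commute (g * ι (ff y 23) * g⁻¹) (ι (ff y n)) := fun n hn h1 => cm_cg.2
      (Subgroup.mem_centralizer_singleton_iff.1 (hP.le (conj_mem_of_norm (inv_mem hg.2) (hT ⟨_, H.st.mem_T hn h1, rfl⟩)))).symm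
    refine Subgroup.mem_centralizer_singleton_iff.2 (mul_inv_eq_iff_eq_mul.1 (by_contra fun e => ?_))
    obtain ⟨k, e1⟩ := Γ.cls H (hc 23 (by decide) (by decide +kernel)) e
    have e2 : g * ι (ff y 23) * g⁻¹ = ι (k⁻¹ * ff y 181 * k) := by rw [map_mul, map_mul, ← e1, map_inv]; group
    rw [e2] at hc e
    rcases H.st.zT (x := k⁻¹ * ff y 181 * k) fun n hn h1 => Γ.inj (by simpa only [map_mul] using (hc n hn h1).eq) with e3 | e3
    · rw [e3, map_one, conj_eq_one_iff] at e2; exact Invol.ne_one_of (Γ.oz H) e2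
    · exact e (congrArg ι e3)) hP)
  exact Nat.odd_iff.2 (Nat.two_dvd_ne_zero.1 fun e => this.not_dvd (by
    rw [Subgroup.relIndex_top_right]; exact e.trans (Subgroup.index_dvd_of_le hP.le)))

section
variable (e1 : a * ι (ff y 23) * a⁻¹ = ι (ff y 181)) (e2 : a * ι (ff y 181) * a⁻¹ = ι (ff y 23))
include e1

theorem twa : Tw (ff y 23) ι (cg a ι) := Γ.tw H (e1 ▸ (H.cz _).map ι) (e1 ▸ Γ.uz H)

theorem icl (h1 : m * m = 1) (h2 : m ≠ 1) : ∃ g, g * ι (ff y 23) * g⁻¹ = ι m := by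
  by_cases e : m = ff y 23
  · exact ⟨1, by simp [e]⟩
  obtain ⟨k, -, e⟩ := H.st.cls' (H.cz m) (Invol.orderOf_two_iff.2 ⟨h1, h2⟩) e
  exact ⟨(ι k)⁻¹ * a, (by group : _ = (ι k)⁻¹ * (a * ι (ff y 23) * a⁻¹) * ι k).trans (by rw [e1, ← e]; simp [mul_assoc])⟩

theorem inn (hG : commutator G = ⊤) (h : G) (c : Commute h (ι (ff y 23))) : ∃ m, Rl ι h m := by
  by_contra hn
  obtain ⟨f, hf⟩ := (Γ.on H).dec h c
  obtain ⟨m, b, rfl⟩ := H.dec f
  cases b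
  · exact hn ⟨m, Act.rl (by simpa using hf)⟩
  have h1 : Act ι (ι m⁻¹ * h) s := by simpa [← mul_assoc] using (Rl.self (m := m⁻¹)).act.mul hf
  clear hn hf c
  generalize ι m⁻¹ * h = h at h1
  obtain ⟨k, o, ⟨j, rfl⟩, e⟩ := Nat.exists_eq_two_pow_mul_odd (orderOf_pos h).ne'
  have h2 := h1.pow (2 * j + 1)
  rw [pow_succ s, pow_mul s, _root_.sq, H.ss, one_pow, one_mul] at h2
  have h3 : (h ^ (2 * j + 1) * h ^ (2 * j + 1)) ^ 2 ^ k = 1 := by
    rw [(Commute.refl _).mul_pow, ← pow_mul, mul_comm _ (2 ^ k), ← e, pow_orderOf_eq_one, one_mul]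
  generalize h ^ (2 * j + 1) = h at h2 h3
  obtain ⟨t, f, t1, t2, t3⟩ : ∃ t f, t * t = 1 ∧ Act ι t f ∧ ¬ Inr f := by
    rcases (Γ.twa H e1).symm.two H (rl_one.1 (Act.rl (by rw [map_one, ← H.ss]; exact h2.mul h2))) h3 with e | e
    · exact ⟨h, s, e, h2, H.outer⟩
    · refine ⟨_, _, ?_, h2.mul (Rl.self (m := ff y 91)).act, fun i => H.outer (by simpa using i.mul ⟨(ff y 91)⁻¹, rfl⟩)⟩
      rw [show h * ι (ff y 91) * (h * ι (ff y 91)) = h * ι (ff y 91) * h⁻¹ * (h * h) * ι (ff y 91) by group, h2, e, (H.sf (by decide)).2,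
        show sg 91 = 91 by decide +kernel, ← map_mul, ← map_mul, (H.cz _).eq, mul_assoc, H.st.m (a := 91) (b := 91) (c := 23), H.st.zz, map_one]
  let J : Subgroup G :=
    { carrier := {g | ∃ m, Rl ι g m}
      one_mem' := ⟨1, rl_one.2 (one_mem _)⟩
      mul_mem' := fun ⟨_, a⟩ ⟨_, b⟩ => ⟨_, a.mul b⟩
      inv_mem' := fun ⟨_, a⟩ => ⟨_, a.inv⟩ }
  have tJ : t ∉ J := fun ⟨m, e⟩ => t3 ⟨m, t2.eq Γ.inj e.act⟩
  have tS : t ∈ C1[ι (ff y 23)] := Subgroup.mem_centralizer_singleton_iff.2 (t2.cz H).eq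
  have hi : J.relIndex C1[ι (ff y 23)] = 2 := Subgroup.relIndex_eq_two_iff_exists_notMem_and.2 ⟨t, tS, tJ, fun b hb => by
    obtain ⟨f', hf⟩ := (Γ.on H).dec b (Subgroup.mem_centralizer_singleton_iff.1 hb)
    rcases H.out f' f with ⟨m, rfl⟩ | e | ⟨m, e⟩
    exacts [.inr ⟨m, hf.rl⟩, absurd e t3, .inl ⟨m, (e ▸ hf.mul t2 :).rl⟩]⟩
  have := Subgroup.normal_of_index_eq_two hi
  obtain ⟨g, ⟨m, hm⟩, -⟩ := Loc.thompson_transfer_cyclic (R := ⊥) (Γ.odd_index H) (isCyclic_of_prime_card (p := 2) hi) t1 tS tJ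
    (fun _ ⟨_, e⟩ => Subgroup.mem_centralizer_singleton_iff.2 (e.act.cz H).eq) (hG.ge (Subgroup.mem_top _)) IsPGroup.of_bot bot_le
  have t4 : g * t * g⁻¹ * (g * t * g⁻¹) = 1 := by rw [conj_mul, t1]; simp
  obtain ⟨m, hm⟩ := (Γ.twa H e1).symm.img H hm t4
  obtain ⟨g', e⟩ := Γ.icl H e1 (m := m) (Γ.inj (by rw [map_mul, ← hm, t4, map_one])) (by
    rintro rfl; rw [map_one, conj_eq_one_iff] at hm; exact tJ (hm ▸ one_mem J))
  have e : g⁻¹ * g' * ι (ff y 23) * (g⁻¹ * g')⁻¹ = t := (by group : _ = g⁻¹ * (g' * ι (ff y 23) * g'⁻¹) * g).trans (by rw [e, ← hm]; group)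
  obtain ⟨k, e⟩ := e ▸ Γ.cls H (e ▸ t2.cz H) (e ▸ fun e => tJ ⟨_, e ▸ Rl.self⟩)
  exact tJ ⟨k⁻¹ * ff y 181 * k, by
    rw [show t = ι (k⁻¹ * ff y 181 * k) by rw [map_mul, map_mul, ← e, map_inv]; group]; exact Rl.self⟩

include e2 in
theorem oda (hG : commutator G = ⊤) (hq : q ∈ Qs ι) (ho : Odd (orderOf q)) : q ∈ Qs (cg a ι) :=
  (Γ.twa H e1).odd H e1 e2 (fun _ c => (Γ.inn H e1 hG _ (cm_cg.1 c.symm).symm).imp fun _ e => e.act.cg.rl) hq ho

end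

theorem fin [IsSimpleGroup G] (hG : commutator G = ⊤) (hn : ¬ IsIsolatedInvolution (ι (ff y 23))) (h : G) (c : Commute h (ι (ff y 23))) :
    ∃ m, h = ι m := by
  obtain ⟨a, e1, e2⟩ := Γ.swap H hn
  have T := Γ.twa H e1
  have o : ∀ q, q ∈ Qs ι ⊓ Qs (cg a ι) ↔ q ∈ Qs ι ∧ Odd (orderOf q) := fun q => and_congr_right fun hq => ⟨fun hq' => by
    by_contra! e
    obtain ⟨n, e⟩ := Nat.not_odd_iff_even.1 e
    have := orderOf_pos q
    exact T.dj _ (pow_mem hq n) (pow_mem hq' n) (by rw [orderOf_pow_of_dvd (by omega) ⟨2, by omega⟩, e, ← mul_two, Nat.mul_div_cancel_left _ (by omega)]),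
    Γ.oda H e1 e2 hG hq⟩
  have k : ∀ {g}, (∀ q ∈ Qs ι, Odd (orderOf q) → g * q * g⁻¹ ∈ Qs ι) → g ∈ N[Qs ι ⊓ Qs (cg a ι)] := fun e =>
    Invol.mem_normalizer_of_conj_mem fun q hq => (o _).2 ⟨e q hq.1 ((o _).1 hq).2, by rw [BG.orderOf_conj']; exact ((o _).1 hq).2⟩
  have i2 : ∀ {n}, n < 384 → McR.mul n n = 0 → n ≠ 0 → ∃ g, g * ι (ff y 23) * g⁻¹ = ι (ff y n) := fun a b c =>
    Γ.icl H e1 ((H.st.sq a).2 b) fun e => c ((H.st.eq_one a).1 e)
  have := top_of (Γ.oz H) (fun _ c => k fun _ hq _ => T.a.nrm c hq) (k fun q hq ho => by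
    simpa using mem_cg.1 (Γ.oda H (a := a⁻¹) (by rw [← e2]; group) (by rw [← e1]; group) hG hq ho)) e2
    (fun g c n => let ⟨k, e⟩ := Γ.cls H c n; ⟨_, (H.cz k).map ι, e⟩) ⟨ι (ff y 192), by
      rw [← map_mul, ← map_inv, ← map_mul, ← H.st.cc (by decide) (by decide), ← map_mul, ← H.st.mul (by decide) (by decide)]
      exact congrArg _ (congrArg _ (by decide +kernel))⟩ (i2 (n := 1) (by decide) (by decide +kernel) (by decide))
    (i2 (n := 2) (by decide) (by decide +kernel) (by decide)) ⟨2, by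
      rw [← map_mul, ← map_pow, ← H.st.mul (by decide) (by decide), show ∀ x : L, x ^ 2 ^ 2 = x * x * (x * x) by simp [pow_succ, mul_assoc],
        H.st.m (c := 23), H.st.zz, map_one]⟩ fun c =>
      absurd ((H.st.cm (by decide) (by decide)).2 (Γ.inj (by simpa only [map_mul] using c.eq))) (show McR.mul 1 2 ≠ McR.mul 2 1 by decide +kernel)
  rcases IsSimpleGroup.eq_bot_or_eq_top_of_normal _ (Subgroup.normalizer_eq_top_iff.1 this) with e | e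
  · obtain ⟨m, q, hq, rfl⟩ := Γ.inn H e1 hG h c
    obtain ⟨k, n, hn, e'⟩ := Nat.exists_eq_two_pow_mul_odd (orderOf_pos q).ne'
    rcases T.symm.two H hq (n := k) (Subgroup.mem_bot.1 (e.le ((o _).2 ⟨pow_mem hq _, hn.of_dvd_nat (orderOf_dvd_of_pow_eq_one (by
      rw [← pow_mul, ← e', pow_orderOf_eq_one]))⟩))) with rfl | rfl
    exacts [⟨m, mul_one _⟩, ⟨_, (map_mul ..).symm⟩]
  · exact absurd (Γ.oz H ▸ ((o _).1 (e.ge (Subgroup.mem_top (ι (ff y 23))))).2) (by decide)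

end Gl

omit H in
theorem std_eq [IsSimpleGroup G] (hG : commutator G = ⊤) (hO : pPrimeCore 2 G = ⊥) (hZ : Subgroup.center G = ⊥) {L : Subgroup G}
    (hL : IsStandardSubgroup L) (hc : IsNonsplitDoubleCover L (alternatingGroup (Fin 8))) :
    ∃ t : G, orderOf t = 2 ∧ IsNonsplitDoubleCover C1[t] (alternatingGroup (Fin 8)) := by
  obtain ⟨⟨hp, -⟩, ⟨-, h1⟩, -, h3⟩ := hL
  obtain ⟨⟨z, hz⟩, ho⟩ := exists_prime_orderOf_dvd_card' (G := Subgroup.center L) 2 hc.1.symm.dvd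
  have ho : orderOf z = 2 := (Subgroup.orderOf_mk ..).symm.trans ho
  have cz : ∀ x, Commute x z := Subgroup.mem_center_iff.1 hz
  have ct : C1[z] = ⊤ := eq_top_iff.2 fun x _ => Subgroup.mem_centralizer_singleton_iff.2 (cz x)
  obtain ⟨y, h, e⟩ := exists_st' ho (nonsplit_congr hc (Subgroup.topEquiv.symm.trans (MulEquiv.subgroupCongr ct.symm)) (.refl _))
  obtain rfl := (ff_z (y := y)).trans e
  obtain ⟨s, hs⟩ := h.exists_s cz
  obtain ⟨e⟩ := hc.2.1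
  have H : Sc y s := ⟨h, cz, out_two hp e, hs⟩
  have hQ : Qs L.subtype = Subgroup.centralizer (L : Set G) := by simp [Qs]
  have Γ : Gl L.subtype := ⟨Subtype.val_injective, fun g i a b c => by
    have hg : g ∈ N[L] := by
      rw [h3]
      by_contra hn
      exact (h1 g hn).not_two_dvd_nat (c ▸ Subgroup.orderOf_dvd_natCard _ ⟨hQ ▸ a, _, hQ ▸ b, by simp [mul_assoc]⟩)
    exact ⟨L.normalizerMonoidHom ⟨g, hg⟩, fun x => rfl⟩⟩
  refine ⟨_, Γ.oz H, nonsplit_congr hc (MulEquiv.subgroupCongr (le_antisymm (fun l hl => Subgroup.mem_centralizer_singleton_iff.2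
    ((cz ⟨l, hl⟩).map L.subtype).eq) fun g hg => ?_)) (.refl _)⟩
  obtain ⟨m, rfl⟩ := Γ.fin H hG (fun e => Invol.ne_one_of (Γ.oz H) (by simpa [hZ] using Block.zstar_center e hO)) g
    (Subgroup.mem_centralizer_singleton_iff.1 hg)
  exact m.2

end Cfsg.Agent.McR
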