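import Cfsg.Agent.McS.Aut
import Cfsg.Agent.C3R.Std
import Cfsg.Agent.ZC.Main
import Cfsg.Agent.Loc.TT

/-! A standard subgroup `2·A₈` of a simple group is the centraliser of its central involution. -/

set_option autoImplicit false
set_option linter.unusedSectionVars false

namespace Cfsg.Agent.McR

open Cfsg.Agent.Known Cfsg.Agent.BG Cfsg.Agent.Rec Cfsg.Agent.Spor
open Cfsg.Agent.C3R (Qs cjh mem_Qs cjh_cj Qs_cjh)

variable {G L : Type*} [Group G] [Group L] {y : ℕ → L} {s f f' : MulAut L} {ι κ : L →* G} {l x c m : L} {q g g' : G}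

theorem top_of [Finite G] {z u a x x' : G} {M : Subgroup G} (oz : orderOf z = 2) (hC : ∀ k, Commute k z → k ∈ M) (ha : a ∈ M)
    (au : a * u * a⁻¹ = z) (cls : ∀ g, Commute (g * z * g⁻¹) z → g * z * g⁻¹ ≠ z → ∃ k, Commute k z ∧ k * (g * z * g⁻¹) * k⁻¹ = u)
    (eu : ∃ k, k * u * k⁻¹ = z * u) (hx : ∃ g, g * z * g⁻¹ = x) (hx' : ∃ g, g * z * g⁻¹ = x') (h2 : ZD.Two (x * x'))
    (h3 : ¬ Commute x x') : M = ⊤ := by
  let Z : Set G := {x | ∃ g, g * z * g⁻¹ = x}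
  have zc : ∀ x ∈ Z, ∀ g, g * x * g⁻¹ ∈ Z := by
    rintro _ ⟨k, rfl⟩ g
    exact ⟨g * k, by group⟩
  have z2 : ∀ x ∈ Z, orderOf x = 2 := by
    rintro _ ⟨k, rfl⟩
    exact (BG.orderOf_conj' ..).trans oz
  have zz : z ∈ Z := ⟨1, by group⟩
  have zu : u ∈ Z := ⟨a⁻¹, by rw [← au]; group⟩
  have zm : ∀ x ∈ Z, ∀ x' ∈ Z, Commute x x' → x ≠ x' → x * x' ∈ Z := by
    rintro _ ⟨g, rfl⟩ x hx c e
    obtain ⟨m, hm⟩ := zc x hx g⁻¹
    obtain ⟨k, hk, e1⟩ := cls m (by simpa [hm, mul_assoc] using c.symm.conj g⁻¹) fun e1 => e (by rw [← e1, hm]; group)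
    obtain ⟨k', e2⟩ := eu
    have := zc _ (zc _ zu k') (g * k⁻¹)
    rw [e2, ← e1, hm, ← mul_inv_eq_iff_eq_mul.2 hk.eq] at this
    convert this using 1
    group
  have l1 : ∀ x ∈ Z, ∀ m ∈ M, ∀ w, m * w * m⁻¹ = z → Commute x w → ∃ m ∈ M, m * x * m⁻¹ = z := fun x hx m hm w e c => by
    obtain ⟨g, hg⟩ := zc x hx m
    by_cases e1 : g * z * g⁻¹ = z
    · exact ⟨m, hm, hg ▸ e1⟩
    obtain ⟨k, hk, e2⟩ := cls g (hg ▸ e ▸ c.conj m) e1
    exact ⟨a * k * m, mul_mem (mul_mem ha (hC _ hk)) hm, by rw [← au, ← e2, hg]; group⟩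
  have l2 : ∀ x ∈ Z, x ∈ M → ∃ m ∈ M, m * x * m⁻¹ = z := fun x hx hM => by
    have xx := Invol.mul_self_of (z2 x hx)
    have z1 := Invol.mul_self_of oz
    rcases Nat.even_or_odd (orderOf (x * z)) with e | e
    · obtain ⟨c1, c2, c3⟩ := Invol.half_pow_spec xx z1 e
      have c4 : x * (x * z) ^ (orderOf (x * z) / 2) ∈ Z := by
        rcases Nat.even_or_odd (orderOf (x * z) / 2) with e | e
        · obtain ⟨g, e⟩ := isConj_iff.1 (Invol.isConj_left_of_even xx z1 e); exact e ▸ zc _ hx g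
        · obtain ⟨g, e⟩ := isConj_iff.1 (Invol.isConj_right_of_odd xx z1 e); exact e ▸ zc _ zz g
      generalize (x * z) ^ (orderOf (x * z) / 2) = c at c1 c2 c3 c4
      have c5 := zm x hx _ c4 ((Commute.refl x).mul_right c2.symm) fun e => Invol.ne_one_of c1 (by simpa using e)
      rw [← mul_assoc, xx, one_mul] at c5
      obtain ⟨m, hm, e⟩ := l1 c c5 1 (one_mem _) _ (by group) c3
      exact l1 x hx m hm c e c2.symm
    · obtain ⟨k, e⟩ := Invol.exists_conj_of_odd xx z1 e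
      exact ⟨_, zpow_mem (mul_mem hM (hC _ (Commute.refl _))) k, e⟩
  have l3 : ∀ {x g k}, x ∈ Z → g⁻¹ * x * g ∈ M → k⁻¹ * x * k ∈ M → g⁻¹ * k ∈ M := fun {x g k} hx h1 h2 => by
    obtain ⟨m, hm, e⟩ := l2 _ (by simpa using zc x hx g⁻¹) h1
    obtain ⟨m', hm', e'⟩ := l2 _ (by simpa using zc x hx k⁻¹) h2
    have : m * (g⁻¹ * k) * m'⁻¹ ∈ M := hC _ (mul_inv_eq_iff_eq_mul.1 (by nth_rw 1 [← e']; rw [← e]; group))
    rwa [M.mul_mem_cancel_right (inv_mem hm'), M.mul_mem_cancel_left hm] at this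
  have fx : ∀ x g : G, x • (g : G ⧸ M) = g ↔ g⁻¹ * x * g ∈ M := fun x g => by
    rw [MulAction.Quotient.smul_mk, eq_comm, QuotientGroup.eq, smul_eq_mul, mul_assoc]
  have P : ZD.PC G (G ⧸ M) Z := ⟨z2, zc, by
    rintro _ ⟨g, rfl⟩
    exact ⟨g, (fx _ _).2 (by simpa [mul_assoc] using hC _ (Commute.refl _))⟩, fun x hx g k h1 h2 => by
      obtain ⟨g, rfl⟩ := QuotientGroup.mk_surjective g
      obtain ⟨k, rfl⟩ := QuotientGroup.mk_surjective k
      exact QuotientGroup.eq.2 (l3 hx ((fx _ _).1 h1) ((fx _ _).1 h2)), zm⟩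
  refine eq_top_iff.2 fun g _ => ?_
  by_contra hg
  exact h3 (P.comm_of_two zz ((fx _ 1).2 (by simpa using hC _ (Commute.refl _))) (zc _ zz g) (fun e => hg (by
    simpa using l3 (zc _ zz g) ((fx _ 1).1 e) (k := g) (by simpa [mul_assoc] using hC _ (Commute.refl _)))) hx hx' h2)

def Act (ι : L →* G) (g : G) (f : MulAut L) : Prop := ∀ x, g * ι x * g⁻¹ = ι (f x)
def Rl (ι : L →* G) (g : G) (m : L) : Prop := ∃ q ∈ Qs ι, g = ι m * q

theorem Act.mul (a : Act ι g f) (b : Act ι g' f') : Act ι (g * g') (f * f') := fun x => by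
  rw [MulAut.mul_apply, ← a, ← b]; group
theorem Act.pow (a : Act ι g f) (n : ℕ) : Act ι (g ^ n) (f ^ n) := by
  induction n with
  | zero => exact fun x => by simp
  | succ n ih => rw [pow_succ, pow_succ]; exact ih.mul a
theorem Rl.act (a : Rl ι g m) : Act ι g (MulAut.conj m) := fun x => by
  obtain ⟨q, hq, rfl⟩ := a
  rw [mul_assoc (ι m), ← (mem_Qs.1 hq x).eq]; simp [mul_assoc]
theorem Act.rl (a : Act ι g (MulAut.conj m)) : Rl ι g m := ⟨(ι m)⁻¹ * g, mem_Qs.2 fun x => (mul_inv_eq_iff_eq_mul.1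
  ((by group : _ = (ι m)⁻¹ * (g * ι x * g⁻¹) * ι m).trans (by rw [a x]; simp [mul_assoc]))).symm, by simp⟩
theorem Act.eq (hi : Function.Injective ι) (a : Act ι g f) (b : Act ι g f') : f = f' := MulEquiv.ext fun x => hi ((a x).symm.trans (b x))
theorem Rl.mul {m' : L} (a : Rl ι g m) (b : Rl ι g' m') : Rl ι (g * g') (m * m') := (map_mul MulAut.conj m m' ▸ a.act.mul b.act :).rl
theorem Rl.pow (a : Rl ι g m) (n : ℕ) : Rl ι (g ^ n) (m ^ n) := (map_pow MulAut.conj m n ▸ a.act.pow n :).rl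
theorem Rl.self : Rl ι (ι m) m := ⟨1, one_mem _, by simp⟩
theorem rl_one : Rl ι g 1 ↔ g ∈ Qs ι := ⟨fun ⟨_, h, e⟩ => by simpa [e], fun h => ⟨g, h, by simp⟩⟩
theorem Rl.inv (a : Rl ι g m) : Rl ι g⁻¹ m⁻¹ := by
  obtain ⟨q, hq, rfl⟩ := a
  exact ⟨q⁻¹, inv_mem hq, by rw [mul_inv_rev, map_inv, (mem_Qs.1 hq m).inv_inv.eq]⟩
theorem Rl.cj (a : Rl ι g m) (k : L) : Rl (cjh k ι) g (k * m * k⁻¹) := by rwa [Rl, Qs_cjh, cjh_cj]
theorem Rl.cm (hi : Function.Injective ι) {m' : L} (a : Rl ι g m) (b : Rl ι g' m') (hq : g' = ι m') (c : Commute g g') : Commute m m' := by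
  obtain ⟨q, hq', rfl⟩ := a
  subst hq
  exact hi (by simpa using (c.mul_left (mem_Qs.1 hq' m').symm.inv_left).eq)

structure On (z : L) (ι : L →* G) : Prop where
  inj : Function.Injective ι
  dec : ∀ h, Commute h (ι z) → ∃ f, Act ι h f

structure Tw (z : L) (ι κ : L →* G) : Prop where
  a : On z ι
  b : On z κ
  cm : Commute (ι z) (κ z)
  dj : ∀ i ∈ Qs ι, i ∈ Qs κ → orderOf i ≠ 2

theorem On.nrm {z : L} (o : On z ι) (c : Commute g (ι z)) (hq : q ∈ Qs ι) : g * q * g⁻¹ ∈ Qs ι := by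
  obtain ⟨f, hf⟩ := o.dec g c
  exact mem_Qs.2 fun x => by
    have := (mem_Qs.1 hq (f.symm x)).conj g
    rwa [hf, MulEquiv.apply_symm_apply] at this

theorem Tw.symm {z : L} (T : Tw z ι κ) : Tw z κ ι := ⟨T.b, T.a, T.cm.symm, fun i a b => T.dj i b a⟩

variable [Finite L] (H : Sc y s)
include H

theorem Sc.cjz (k : L) : cjh k ι (ff y 23) = ι (ff y 23) := by rw [← cjh_cj (ι := ι) k, (H.cz k).eq, mul_inv_cancel_right]
theorem Sc.zQ : ι (ff y 23) ∈ Qs ι := mem_Qs.2 fun x => (H.cz x).map ι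
theorem Sc.sqi (f : MulAut L) : Inr (f * f) := (H.out f f).elim (fun a => a.mul a) fun a => a.elim (fun a => a.mul a) id
theorem On.ordz (o : On (ff y 23) ι) : orderOf (ι (ff y 23)) = 2 := (orderOf_injective ι o.inj _).trans H.st.ord_z
theorem On.ker (o : On (ff y 23) ι) (a : Rl ι g m) (b : Rl ι g x) : x = m ∨ x = m * ff y 23 := by
  have := congrArg (MulAut.conj m⁻¹ * ·) (b.act.eq o.inj a.act)
  simp only [← map_mul, inv_mul_cancel, map_one] at this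
  exact (H.cen (m⁻¹ * x) fun l => (mul_inv_eq_iff_eq_mul.1 (DFunLike.congr_fun this l)).symm).imp (fun e => (inv_mul_eq_one.1 e).symm)
    inv_mul_eq_iff_eq_mul.1
theorem On.cj (o : On (ff y 23) ι) (k : L) : On (ff y 23) (cjh k ι) :=
  ⟨o.inj.comp (MulEquiv.injective _), fun h c => let ⟨f, hf⟩ := o.dec h (H.cjz (ι := ι) k ▸ c)
    ⟨MulAut.conj k * f * MulAut.conj k⁻¹, fun x => (hf _).trans (cjh_cj (ι := ι) k _).symm⟩⟩

namespace Tw
variable (T : Tw (ff y 23) ι κ)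
include T

theorem cj (k : L) : Tw (ff y 23) (cjh k ι) κ := ⟨T.a.cj H k, T.b, (H.cjz (ι := ι) k).symm ▸ T.cm, (Qs_cjh (ι := ι) k).symm ▸ T.dj⟩
theorem nz : κ (ff y 23) ∉ Qs ι := fun h => T.dj _ h H.zQ (T.b.ordz H)

theorem ex : ∃ l, Rl ι (κ (ff y 23)) l ∧ l * l = 1 := by
  obtain ⟨f, hf⟩ := T.b.dec _ T.cm
  obtain ⟨a, b, h1, h2, h3, h4, h5, h6⟩ := H.AB (f := f) ((hf.mul hf).eq T.b.inj fun x => by simp [← map_mul, H.st.zz])
  have k : ∀ {a}, f a = a → a * a * a = 1 → ∃ m, Rl ι (κ a) m := fun {a} e e' => by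
    obtain ⟨g, hg⟩ := T.a.dec (κ a) (mul_inv_eq_iff_eq_mul.1 ((hf a).trans (congrArg κ e))).symm
    obtain ⟨m, hm⟩ := H.sqi (g * g)
    have := hm ▸ (hg.mul hg).mul (hg.mul hg)
    rw [← map_mul, ← map_mul, ← mul_assoc, e', one_mul] at this
    exact ⟨m, this.rl⟩
  obtain ⟨m, hm⟩ := k h1 h3
  obtain ⟨n, hn⟩ := k h2 h4
  have r1 : Rl ι (κ (a * b)) (m * n) := map_mul κ a b ▸ hm.mul hn
  have r2 : Rl ι (κ (a * (a * b) * a⁻¹)) (m * (m * n) * m⁻¹) := by rw [map_mul, map_mul κ a, map_inv]; exact (hm.mul r1).mul hm.inv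
  have h7 : a * (a * b) * a⁻¹ * (a * (a * b) * a⁻¹) = ff y 23 := by rw [conj_mul, h5, (H.cz a).eq, mul_inv_cancel_right]
  generalize a * (a * b) * a⁻¹ = j, m * (m * n) * m⁻¹ = n' at r2 h6 h7
  generalize a * b = i, m * n = m' at r1 h5 h6
  have p : ∀ {i : L}, i * i = ff y 23 → i ^ 2 ^ 2 = 1 := fun {i} e => by
    rw [show i ^ 2 ^ 2 = i * i * (i * i) by simp [pow_succ, mul_assoc], e, H.st.zz]
  have P : IsPGroup 2 ↥(Subgroup.zpowers i ⊔ Subgroup.zpowers j) := (Invol.isPGroup_zpowers (p h5)).to_sup_of_normal_left'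
    (Invol.isPGroup_zpowers (p h7)) (Subgroup.zpowers_le.2 (Invol.mem_normalizer_of_conj_mem (by
      rintro _ ⟨k, rfl⟩
      have : j * i * j⁻¹ = i ^ (-1 : ℤ) := by
        have e : j * i * j = i := mul_left_cancel (a := i) (by rw [h5, ← h6]; group)
        calc _ = j * i * j * (j * j)⁻¹ := by group
          _ = _ := by rw [e, h7, ← h5]; group
      exact ⟨-1 * k, by simp only [← conj_zpow, this, zpow_mul]⟩)))
  let M : Subgroup L :=
    { carrier := {m | ∃ x ∈ Subgroup.zpowers i ⊔ Subgroup.zpowers j, Rl ι (κ x) m}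
      one_mem' := ⟨1, one_mem _, by simpa using Rl.self (ι := ι) (m := 1)⟩
      mul_mem' := fun ⟨x, a, b⟩ ⟨x', a', b'⟩ => ⟨_, mul_mem a a', map_mul κ x x' ▸ b.mul b'⟩
      inv_mem' := fun ⟨x, a, b⟩ => ⟨_, inv_mem a, map_inv κ x ▸ b.inv⟩ }
  have hM : IsPGroup 2 M := fun ⟨m, x, a, b⟩ => by
    obtain ⟨n, hn⟩ := P ⟨x, a⟩
    have := b.pow (2 ^ n)
    rw [← map_pow, show x ^ 2 ^ n = 1 from congrArg Subtype.val hn, map_one] at this
    refine ⟨n + 1, Subtype.ext ?_⟩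
    show m ^ 2 ^ (n + 1) = 1
    rw [pow_succ, pow_mul, _root_.sq]
    rcases T.a.ker H (rl_one.2 (one_mem _)) this with e | e <;> simp [e, H.st.zz]
  have q1 : ∀ {x m}, x * x = ff y 23 → Rl ι (κ x) m → Rl ι (κ (ff y 23)) (m * m) := fun e r => by rw [← e, map_mul]; exact r.mul r
  exact ⟨_, q1 h5 r1, H.q8 hM ⟨_, Subgroup.mem_sup_left (Subgroup.mem_zpowers _), r1⟩ ⟨_, Subgroup.mem_sup_right (Subgroup.mem_zpowers _), r2⟩
    (T.a.ker H (q1 h5 r1) (q1 h7 r2)) (T.a.ker H (q1 h5 r1) (q1 h6 (map_mul κ i j ▸ r1.mul r2)))⟩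

theorem exu : ∃ k, Rl (cjh k ι) (κ (ff y 23)) (ff y 181) := by
  obtain ⟨l, d, e⟩ := T.ex H
  obtain ⟨m, -, e1 | ⟨k, -, e1⟩⟩ := H.st.cls (M := ⊤) le_top (Subgroup.mem_top l) (Invol.orderOf_two_iff.2 ⟨e, by
    rintro rfl; exact T.nz H (rl_one.1 d)⟩)
  · rw [← mul_inv_eq_iff_eq_mul.2 (H.cz m).eq, mul_left_inj, mul_right_inj] at e1
    obtain ⟨q, hq, e⟩ := d
    exact absurd (e ▸ mul_mem (e1 ▸ H.zQ) hq) (T.nz H)
  · exact ⟨k * m, by rw [← e1, show k * (m * l * m⁻¹) * k⁻¹ = k * m * l * (k * m)⁻¹ by group]; exact d.cj _⟩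

theorem small' (d : Rl ι (κ (ff y 23)) (ff y 181)) {t : G} (h1 : t ∈ Qs κ) (h2 : Commute t (ι (ff y 23)))
    (h3 : t * t = 1 ∨ t * t = κ (ff y 23)) : t = 1 ∨ t = κ (ff y 23) := by
  obtain ⟨f, hf⟩ := T.a.dec t h2
  have c := (mem_Qs.1 h1 (ff y 23)).symm
  have cu : ∀ x, Commute x (ff y 181) → Commute (ι x) (κ (ff y 23)) := fun x hx => by
    obtain ⟨q, hq, e⟩ := d
    exact e ▸ (hx.map ι).mul_right (mem_Qs.1 hq x)
  have k : ∀ x, Commute x (ff y 181) → x * (f x)⁻¹ ∈ (Qs κ).comap ι := fun x hx => by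
    have := mul_mem (T.b.nrm (cu x hx) h1) (inv_mem h1)
    rwa [show ι x * t * (ι x)⁻¹ * t⁻¹ = ι x * (t * ι x * t⁻¹)⁻¹ by group, hf, ← map_inv, ← map_mul] at this
  have k0 : ∀ s ∈ Qs ι, s ∈ Qs κ → s * s = 1 ∨ s * s = κ (ff y 23) → s = 1 := fun s a b e => by
    by_contra c
    exact e.elim (fun e => T.dj s a b (Invol.orderOf_two_iff.2 ⟨e, c⟩)) fun e => T.nz H (e ▸ mul_mem a a)
  have e : f (ff y 181) = ff y 181 := by
    obtain ⟨q, hq, e⟩ := id d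
    rcases T.a.ker H d (x := f (ff y 181)) ⟨_, T.a.nrm h2 hq, by rw [← hf, ← mul_inv_eq_iff_eq_mul.2 c.eq, e]; group⟩ with e | e
    · exact e
    · have := k _ (Commute.refl _)
      rw [e, mul_inv_rev, ← (H.cz _).inv_inv.eq, mul_inv_cancel_left] at this
      exact absurd (inv_mem_iff.1 this) (T.symm.nz H)
  rcases H.fixu e (T.symm.nz H) k (fun x hx c hc => by simpa using T.b.nrm (cu x hx) hc) with rfl | rfl
  · exact .inl (k0 t (rl_one.1 (Act.rl (by rwa [map_one]))) h1 h3)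
  · have z1 := Invol.mul_self_of (T.b.ordz H)
    exact .inr ((eq_inv_of_mul_eq_one_left (k0 _ (rl_one.1 (H.st.uu ▸ hf.rl.mul d)) (mul_mem h1 H.zQ)
      (by rwa [c.symm.mul_mul_mul_comm, z1, mul_one]))).trans (inv_eq_of_mul_eq_one_right z1))

theorem small {t : G} (h1 : t ∈ Qs κ) (h3 : t * t = 1 ∨ t * t = κ (ff y 23)) : t = 1 ∨ t = κ (ff y 23) := by
  obtain ⟨k, d⟩ := T.exu H
  obtain ⟨l, ⟨q, hq, e⟩, e'⟩ := T.symm.ex H
  have c : Commute q (ι (ff y 23)) := e ▸ (mem_Qs.1 hq _).symm.mul_right (Commute.refl q)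
  have := (T.cj H k).small' H d hq ((H.cjz (ι := ι) k).symm ▸ c) (.inl (by
    rw [← Invol.mul_self_of (T.a.ordz H), e, (mem_Qs.1 hq l).symm.mul_mul_mul_comm, ← map_mul, e', map_one, one_mul]))
  refine (T.cj H k).small' H d h1 ((H.cjz (ι := ι) k).symm ▸ e ▸ (mem_Qs.1 h1 _).symm.mul_right ?_) h3
  rcases this with rfl | rfl
  exacts [Commute.one_right _, (mem_Qs.1 h1 _).symm]

theorem two {t : G} (h1 : t ∈ Qs κ) {n : ℕ} (h2 : t ^ 2 ^ n = 1) : t = 1 ∨ t = κ (ff y 23) := by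
  induction n generalizing t with
  | zero => exact .inl (by simpa using h2)
  | succ n ih => exact T.small H h1 (ih (mul_mem h1 h1) (by rw [← _root_.sq, ← pow_mul, ← pow_succ', h2]))

/-- `2`-elements acting as inner automorphisms lie in the image of `L` -/
theorem img (a : Rl κ g m) (h : g * g = 1) : ∃ m, g = κ m := by
  obtain ⟨q, hq, rfl⟩ := id a
  have e := T.b.ker H (rl_one.2 (one_mem _)) (h ▸ a.mul a)
  rw [(mem_Qs.1 hq m).symm.mul_mul_mul_comm, ← map_mul, mul_eq_one_iff_inv_eq] at h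
  rcases T.small H hq (e.imp (fun e => by rw [← h, e]; simp) fun e => by
    rw [← h, e, one_mul, Invol.inv_eq_of (T.b.ordz H)]) with rfl | rfl
  exacts [⟨m, mul_one _⟩, ⟨_, (map_mul ..).symm⟩]

theorem cls : ∃ k, ι k * κ (ff y 23) * (ι k)⁻¹ = ι (ff y 181) := by
  obtain ⟨k, q, hq, e⟩ := T.exu H
  rw [Qs_cjh] at hq
  have e0 : cjh k ι (ff y 181) = (ι k)⁻¹ * ι (ff y 181) * ι k := by simp [cjh]
  rcases T.symm.small H hq (.inl (by
    rw [← Invol.mul_self_of (T.b.ordz H), e, (mem_Qs.1 ((Qs_cjh (ι := ι) k).ge hq) _).symm.mul_mul_mul_comm, ← map_mul, H.st.uu, map_one,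
      one_mul])) with rfl | rfl
  · exact ⟨k, by rw [e, e0]; group⟩
  · refine ⟨ff y 192 * k, ?_⟩
    have e1 : ff y 192 * ff y 169 * (ff y 192)⁻¹ = ff y 181 := (H.st.cc (by decide) (by decide)).symm.trans (congrArg _ (by decide +kernel))
    rw [← H.st.m (a := 181) (b := 23) (c := 169)] at e1
    rw [e, e0, mul_assoc (_ * _) (ι k), ((H.cz k).map ι).eq]
    exact Eq.trans (by simp [mul_assoc]) (congrArg ι e1)

end Tw

end Cfsg.Agent.McR
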